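import Cfsg.Agent.ChevGroup.Table.Tab

/-!
Root system and parabolic chain certificates of type G2, generated from the tables of `Def_ChevG2`.
-/

set_option autoImplicit false

namespace Cfsg.Agent.ChevGroup.TypeG2

/-- The root system tables. -/
def tab : Tab where
  n := 12
  l := 2
  simpleT := 0x607
  reflT := [0xb060809040a010702030500,
    0xa0b09070805060304020001]
  n_pos := by decide
  l_pos := by decide

theorem tab_ok : tab.ok = true := by decide +kernel

/-- The root system. -/
abbrev S : RootIdx (Fin tab.n) (Fin tab.l) := tab.idx tab_ok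

instance : DecidablePred S.pos := fun r => inferInstanceAs (Decidable (tab.n ≤ 2 * r.val))

/-- A longest word. -/
def w0 : List (Fin 2) := [1, 0, 1, 0, 1, 0]

/-- A word carrying a fundamental root to each root. -/
def rootWit : List (List (Fin 2) × Fin 2) := [([1, 0, 1], 1),
  ([0, 1], 1),
  ([0, 1, 0], 0),
  ([1, 0], 0),
  ([0], 0),
  ([1], 1),
  ([], 1),
  ([], 0),
  ([1], 0),
  ([0, 1], 0),
  ([0], 1),
  ([1, 0], 1)]

/-- Data of step 0. -/
def data0 : Tab.StepData where
  m := 6
  K := [0, 1]
  J := [0]
  acts := [0x50304010200, 0x40502030001]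
  words := [[],
      [1],
      [0, 1],
      [1, 0, 1],
      [0, 1, 0, 1],
      [1, 0, 1, 0, 1]]
  cuts := [0x0, 0x0]
  jroots := [([0], 0),
      ([], 0)]

/-- Roots whose span the smaller parabolic preserves. -/
def span0 : List (Fin 12) := [6, 8, 9, 10, 11]

theorem valid0 : (tab.step data0).validB S = true := by decide +kernel

theorem masks0 :
    ((List.range (tab.step data0).m).map fun c => Step.maskOf S span0 ((tab.step data0).word c)).Nodup := by
  decide +kernel

/-- Data of step 1. -/
def data1 : Tab.StepData where
  m := 2
  K := [0]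
  J := []
  acts := [0x1, 0x0]
  words := [[],
      [0]]
  cuts := [0x0, 0x0]
  jroots := []

/-- Roots whose span the smaller parabolic preserves. -/
def span1 : List (Fin 12) := [7, 8, 9, 10, 11]

theorem valid1 : (tab.step data1).validB S = true := by decide +kernel

theorem masks1 :
    ((List.range (tab.step data1).m).map fun c => Step.maskOf S span1 ((tab.step data1).word c)).Nodup := by
  decide +kernel

end Cfsg.Agent.ChevGroup.TypeG2
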