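import Cfsg.Agent.ChevGroup.Table.Tab

/-!
Root system and parabolic chain certificates of type D4, generated from the tables of `Def_ChevD4`.
-/

set_option autoImplicit false

namespace Cfsg.Agent.ChevGroup.TypeD4

/-- The root system tables. -/
def tab : Tab where
  n := 24
  l := 4
  simpleT := 0xc0d0e12
  reflT := [0x1711100f0e05161514130d0c0b0a04030201120908070600,
    0x161715141213110d0c09100f08070e0b0a06040503020001,
    0x1714131615120f0e11100a0c0b0d07060908050201040300,
    0x17151613141210110e0f0d0b0c0a08090607050304010200]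
  n_pos := by decide
  l_pos := by decide

theorem tab_ok : tab.ok = true := by decide +kernel

/-- The root system. -/
abbrev S : RootIdx (Fin tab.n) (Fin tab.l) := tab.idx tab_ok

instance : DecidablePred S.pos := fun r => inferInstanceAs (Decidable (tab.n ≤ 2 * r.val))

/-- A longest word. -/
def w0 : List (Fin 4) := [3, 1, 2, 0, 1, 3, 0, 1, 2, 0, 1, 0]

/-- A word carrying a fundamental root to each root. -/
def rootWit : List (List (Fin 4) × Fin 4) := [([1, 3, 2, 1, 0], 0),
  ([3, 2, 1, 0], 0),
  ([2, 1, 0], 0),
  ([3, 1, 0], 0),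
  ([1, 0], 0),
  ([0], 0),
  ([3, 2, 1], 1),
  ([2, 1], 1),
  ([3, 1], 1),
  ([1], 1),
  ([2], 2),
  ([3], 3),
  ([], 3),
  ([], 2),
  ([], 1),
  ([3], 1),
  ([2], 1),
  ([3, 2], 1),
  ([], 0),
  ([1], 0),
  ([3, 1], 0),
  ([2, 1], 0),
  ([3, 2, 1], 0),
  ([1, 3, 2, 1], 0)]

/-- Data of step 0. -/
def data0 : Tab.StepData where
  m := 8
  K := [0, 1, 2, 3]
  J := [0, 1, 2]
  acts := [0x706040502030100, 0x705060403010200, 0x706030205040100, 0x607050403020001]
  words := [[],
      [3],
      [1, 3],
      [0, 1, 3],
      [2, 1, 3],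
      [2, 0, 1, 3],
      [1, 2, 0, 1, 3],
      [3, 1, 2, 0, 1, 3]]
  cuts := [0x100000000, 0x0, 0x0, 0x0]
  jroots := [([2, 1, 0], 0),
      ([1, 0], 0),
      ([0], 0),
      ([2, 1], 1),
      ([1], 1),
      ([2], 2),
      ([], 2),
      ([], 1),
      ([2], 1),
      ([], 0),
      ([1], 0),
      ([2, 1], 0)]

/-- Roots whose span the smaller parabolic preserves. -/
def span0 : List (Fin 24) := [12, 15, 17, 20, 22, 23]

theorem valid0 : (tab.step data0).validB S = true := by decide +kernel

theorem masks0 :
    ((List.range (tab.step data0).m).map fun c => Step.maskOf S span0 ((tab.step data0).word c)).Nodup := by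
  decide +kernel

/-- Data of step 1. -/
def data1 : Tab.StepData where
  m := 4
  K := [0, 1, 2]
  J := [0, 1]
  acts := [0x2030100, 0x3010200, 0x3020001, 0x0]
  words := [[],
      [2],
      [1, 2],
      [0, 1, 2]]
  cuts := [0x0, 0x0, 0x0, 0x0]
  jroots := [([1, 0], 0),
      ([0], 0),
      ([1], 1),
      ([], 1),
      ([], 0),
      ([1], 0)]

/-- Roots whose span the smaller parabolic preserves. -/
def span1 : List (Fin 24) := [13, 16, 17, 21, 22, 23]

theorem valid1 : (tab.step data1).validB S = true := by decide +kernel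

theorem masks1 :
    ((List.range (tab.step data1).m).map fun c => Step.maskOf S span1 ((tab.step data1).word c)).Nodup := by
  decide +kernel

/-- Data of step 2. -/
def data2 : Tab.StepData where
  m := 3
  K := [0, 1]
  J := [0]
  acts := [0x10200, 0x20001, 0x0, 0x0]
  words := [[],
      [1],
      [0, 1]]
  cuts := [0x0, 0x0, 0x0, 0x0]
  jroots := [([0], 0),
      ([], 0)]

/-- Roots whose span the smaller parabolic preserves. -/
def span2 : List (Fin 24) := [14, 15, 16, 17, 19, 20, 21, 22, 23]

theorem valid2 : (tab.step data2).validB S = true := by decide +kernel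

theorem masks2 :
    ((List.range (tab.step data2).m).map fun c => Step.maskOf S span2 ((tab.step data2).word c)).Nodup := by
  decide +kernel

/-- Data of step 3. -/
def data3 : Tab.StepData where
  m := 2
  K := [0]
  J := []
  acts := [0x1, 0x0, 0x0, 0x0]
  words := [[],
      [0]]
  cuts := [0x0, 0x0, 0x0, 0x0]
  jroots := []

/-- Roots whose span the smaller parabolic preserves. -/
def span3 : List (Fin 24) := [18, 19, 20, 21, 22, 23]

theorem valid3 : (tab.step data3).validB S = true := by decide +kernel

theorem masks3 :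
    ((List.range (tab.step data3).m).map fun c => Step.maskOf S span3 ((tab.step data3).word c)).Nodup := by
  decide +kernel

end Cfsg.Agent.ChevGroup.TypeD4
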