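import Cfsg.Agent.ChevGroup.Table.Tab

/-!
Root system and parabolic chain certificates of type E6, generated from the tables of `Def_ChevE6`.
-/

set_option autoImplicit false

namespace Cfsg.Agent.ChevGroup.TypeE6

/-- The root system tables. -/
def tab : Tab where
  n := 72
  l := 6
  simpleT := 0x2425272a2e38
  reflT := [0x47464544433736353433322d2c2b2a0f4241403f3e3d31302f2e3c3b3a39292827262524232221201f1e0e0d0c0b191817160a0908070605381d1c1b1a1514131211100403020100,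
    0x46474544434241403c3b3a3f3e3d39383736352d2c2b292827193433322a31302f2625242322211817161d1514132e201f1e1c1b1a1211100f0e0a09080d0c0b0706050403020001,
    0x47464241404544433f3e3d3c3b3a383937363531302f3433322e2928271d2d2c2b2625242322211c1b1a2a201f1e191514131817161211100e0f0d0c0b0a09080403020706050100,
    0x4745464443423f3e41403d3c3b393a3837343336353231302e2f2d2c2a2b262520292824231f1e2722211c1d1b1a181917161512111413100f0d0e0c0b0a07060908050403010200,
    0x47464445434142403f3d3e3c3a3b3938363735343233312f302e2d2b2c2a2927282422262125231f201e1d1b1c1a191718161415131210110f0e0c0d0b090a080705060402030100,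
    0x47464543444240413e3f3d3b3c3a393837353633343230312f2e2c2d2b2a282927252623242122201e1f1d1c1a1b191816171513141112100f0e0d0b0c0a08090607050304020100]
  n_pos := by decide
  l_pos := by decide

theorem tab_ok : tab.ok = true := by decide +kernel

/-- The root system. -/
abbrev S : RootIdx (Fin tab.n) (Fin tab.l) := tab.idx tab_ok

instance : DecidablePred S.pos := fun r => inferInstanceAs (Decidable (tab.n ≤ 2 * r.val))

/-- A longest word. -/
def w0 : List (Fin 6) := [0, 2, 3, 4, 5, 1, 3, 4, 2, 3, 0, 2, 1, 3, 4, 5, 1, 3, 4, 2, 3, 0, 2, 1, 3, 4, 2, 3, 0, 2, 1, 3, 0, 2, 1, 0]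

/-- A word carrying a fundamental root to each root. -/
def rootWit : List (List (Fin 6) × Fin 6) := [([1, 3, 4, 5, 2, 3, 4, 1, 3, 2, 0], 0),
  ([3, 4, 5, 2, 3, 4, 1, 3, 2, 0], 0),
  ([4, 5, 2, 3, 4, 1, 3, 2, 0], 0),
  ([5, 2, 3, 4, 1, 3, 2, 0], 0),
  ([2, 3, 4, 1, 3, 2, 0], 0),
  ([4, 5, 3, 4, 1, 3, 2, 0], 0),
  ([5, 3, 4, 1, 3, 2, 0], 0),
  ([3, 4, 1, 3, 2, 0], 0),
  ([5, 4, 1, 3, 2, 0], 0),
  ([4, 1, 3, 2, 0], 0),
  ([1, 3, 2, 0], 0),
  ([5, 4, 3, 2, 0], 0),
  ([4, 3, 2, 0], 0),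
  ([3, 2, 0], 0),
  ([2, 0], 0),
  ([0], 0),
  ([4, 5, 3, 4, 2, 3, 1], 1),
  ([5, 3, 4, 2, 3, 1], 1),
  ([3, 4, 2, 3, 1], 1),
  ([5, 4, 2, 3, 1], 1),
  ([4, 2, 3, 1], 1),
  ([2, 3, 1], 1),
  ([5, 4, 3, 1], 1),
  ([4, 3, 1], 1),
  ([3, 1], 1),
  ([1], 1),
  ([5, 4, 3, 2], 2),
  ([4, 3, 2], 2),
  ([3, 2], 2),
  ([2], 2),
  ([5, 4, 3], 3),
  ([4, 3], 3),
  ([3], 3),
  ([5, 4], 4),
  ([4], 4),
  ([5], 5),
  ([], 5),
  ([], 4),
  ([5], 4),
  ([], 3),
  ([4], 3),
  ([5, 4], 3),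
  ([], 2),
  ([3], 2),
  ([4, 3], 2),
  ([5, 4, 3], 2),
  ([], 1),
  ([3], 1),
  ([4, 3], 1),
  ([5, 4, 3], 1),
  ([2, 3], 1),
  ([4, 2, 3], 1),
  ([5, 4, 2, 3], 1),
  ([3, 4, 2, 3], 1),
  ([5, 3, 4, 2, 3], 1),
  ([4, 5, 3, 4, 2, 3], 1),
  ([], 0),
  ([2], 0),
  ([3, 2], 0),
  ([4, 3, 2], 0),
  ([5, 4, 3, 2], 0),
  ([1, 3, 2], 0),
  ([4, 1, 3, 2], 0),
  ([5, 4, 1, 3, 2], 0),
  ([3, 4, 1, 3, 2], 0),
  ([5, 3, 4, 1, 3, 2], 0),
  ([4, 5, 3, 4, 1, 3, 2], 0),
  ([2, 3, 4, 1, 3, 2], 0),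
  ([5, 2, 3, 4, 1, 3, 2], 0),
  ([4, 5, 2, 3, 4, 1, 3, 2], 0),
  ([3, 4, 5, 2, 3, 4, 1, 3, 2], 0),
  ([1, 3, 4, 5, 2, 3, 4, 1, 3, 2], 0)]

/-- Data of step 0. -/
def data0 : Tab.StepData where
  m := 27
  K := [0, 1, 2, 3, 4, 5]
  J := [0, 1, 2, 3, 4]
  acts := [0x191a18171615141312110e0f100b0c0d090a060508070403020100, 0x1a191816171415111213100f0e0d0c0b0a09070805060304020100, 0x1a181917161514131011120d0e0f0a0b0c09080704030605020100, 0x1a19171816151213140f10110e0d0c0b08060a0709050402030100, 0x1a191815141716131211100c0e0a0f090d0b080706050403010200, 0x1a191817161311150f140d120b100c0e0a09080706050403020001]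
  words := [[],
      [5],
      [4, 5],
      [3, 4, 5],
      [1, 3, 4, 5],
      [2, 3, 4, 5],
      [2, 1, 3, 4, 5],
      [0, 2, 3, 4, 5],
      [0, 2, 1, 3, 4, 5],
      [3, 2, 1, 3, 4, 5],
      [3, 0, 2, 1, 3, 4, 5],
      [4, 3, 2, 1, 3, 4, 5],
      [2, 3, 0, 2, 1, 3, 4, 5],
      [4, 3, 0, 2, 1, 3, 4, 5],
      [5, 4, 3, 2, 1, 3, 4, 5],
      [4, 2, 3, 0, 2, 1, 3, 4, 5],
      [5, 4, 3, 0, 2, 1, 3, 4, 5],
      [3, 4, 2, 3, 0, 2, 1, 3, 4, 5],
      [5, 4, 2, 3, 0, 2, 1, 3, 4, 5],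
      [1, 3, 4, 2, 3, 0, 2, 1, 3, 4, 5],
      [5, 3, 4, 2, 3, 0, 2, 1, 3, 4, 5],
      [5, 1, 3, 4, 2, 3, 0, 2, 1, 3, 4, 5],
      [4, 5, 3, 4, 2, 3, 0, 2, 1, 3, 4, 5],
      [4, 5, 1, 3, 4, 2, 3, 0, 2, 1, 3, 4, 5],
      [3, 4, 5, 1, 3, 4, 2, 3, 0, 2, 1, 3, 4, 5],
      [2, 3, 4, 5, 1, 3, 4, 2, 3, 0, 2, 1, 3, 4, 5],
      [0, 2, 3, 4, 5, 1, 3, 4, 2, 3, 0, 2, 1, 3, 4, 5]]
  cuts := [0x30000020001000000000000000000, 0x200010000000000000000000000000200010000000000, 0x200000100000000000000000000000000, 0x1000000000000000000000000000000000000, 0x0, 0x0]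
  jroots := [([2, 3, 4, 1, 3, 2, 0], 0),
      ([3, 4, 1, 3, 2, 0], 0),
      ([4, 1, 3, 2, 0], 0),
      ([1, 3, 2, 0], 0),
      ([4, 3, 2, 0], 0),
      ([3, 2, 0], 0),
      ([2, 0], 0),
      ([0], 0),
      ([3, 4, 2, 3, 1], 1),
      ([4, 2, 3, 1], 1),
      ([2, 3, 1], 1),
      ([4, 3, 1], 1),
      ([3, 1], 1),
      ([1], 1),
      ([4, 3, 2], 2),
      ([3, 2], 2),
      ([2], 2),
      ([4, 3], 3),
      ([3], 3),
      ([4], 4),
      ([], 4),
      ([], 3),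
      ([4], 3),
      ([], 2),
      ([3], 2),
      ([4, 3], 2),
      ([], 1),
      ([3], 1),
      ([4, 3], 1),
      ([2, 3], 1),
      ([4, 2, 3], 1),
      ([3, 4, 2, 3], 1),
      ([], 0),
      ([2], 0),
      ([3, 2], 0),
      ([4, 3, 2], 0),
      ([1, 3, 2], 0),
      ([4, 1, 3, 2], 0),
      ([3, 4, 1, 3, 2], 0),
      ([2, 3, 4, 1, 3, 2], 0)]

/-- Roots whose span the smaller parabolic preserves. -/
def span0 : List (Fin 72) := [36, 38, 41, 45, 49, 52, 54, 55, 60, 63, 65, 66, 68, 69, 70, 71]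

theorem valid0 : (tab.step data0).validB S = true := by decide +kernel

theorem masks0 :
    ((List.range (tab.step data0).m).map fun c => Step.maskOf S span0 ((tab.step data0).word c)).Nodup := by
  decide +kernel

/-- Data of step 1. -/
def data1 : Tab.StepData where
  m := 16
  K := [0, 1, 2, 3, 4]
  J := [0, 1, 2, 3]
  acts := [0xf0e0d0a0b0c08090504070603020100, 0xe0f0d0c0b0a09080607040502030100, 0xf0e0c0d090a0b080706030205040100, 0xf0d0e0c0b0a07050906080403010200, 0xf0e0b090d080c0a0706050403020001, 0x0]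
  words := [[],
      [4],
      [3, 4],
      [1, 3, 4],
      [2, 3, 4],
      [2, 1, 3, 4],
      [0, 2, 3, 4],
      [0, 2, 1, 3, 4],
      [3, 2, 1, 3, 4],
      [3, 0, 2, 1, 3, 4],
      [4, 3, 2, 1, 3, 4],
      [2, 3, 0, 2, 1, 3, 4],
      [4, 3, 0, 2, 1, 3, 4],
      [4, 2, 3, 0, 2, 1, 3, 4],
      [3, 4, 2, 3, 0, 2, 1, 3, 4],
      [1, 3, 4, 2, 3, 0, 2, 1, 3, 4]]
  cuts := [0x200010000000000000000, 0x2000100000000, 0x1000000000000000000000000, 0x0, 0x0, 0x0]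
  jroots := [([1, 3, 2, 0], 0),
      ([3, 2, 0], 0),
      ([2, 0], 0),
      ([0], 0),
      ([2, 3, 1], 1),
      ([3, 1], 1),
      ([1], 1),
      ([3, 2], 2),
      ([2], 2),
      ([3], 3),
      ([], 3),
      ([], 2),
      ([3], 2),
      ([], 1),
      ([3], 1),
      ([2, 3], 1),
      ([], 0),
      ([2], 0),
      ([3, 2], 0),
      ([1, 3, 2], 0)]

/-- Roots whose span the smaller parabolic preserves. -/
def span1 : List (Fin 72) := [37, 38, 40, 41, 44, 45, 48, 49, 51, 52, 53, 54, 55, 59, 60, 62, 63, 64, 65, 66, 67, 68, 69, 70, 71]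

theorem valid1 : (tab.step data1).validB S = true := by decide +kernel

theorem masks1 :
    ((List.range (tab.step data1).m).map fun c => Step.maskOf S span1 ((tab.step data1).word c)).Nodup := by
  decide +kernel

/-- Data of step 2. -/
def data2 : Tab.StepData where
  m := 10
  K := [0, 1, 2, 3]
  J := [0, 1, 2]
  acts := [0x9070804030605020100, 0x9080705060304010200, 0x8090706050201040300, 0x9060408050703020001, 0x0, 0x0]
  words := [[],
      [3],
      [1, 3],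
      [2, 3],
      [2, 1, 3],
      [0, 2, 3],
      [0, 2, 1, 3],
      [3, 2, 1, 3],
      [3, 0, 2, 1, 3],
      [2, 3, 0, 2, 1, 3]]
  cuts := [0x100000000000000, 0x20001000000, 0x0, 0x0, 0x0, 0x0]
  jroots := [([2, 0], 0),
      ([0], 0),
      ([1], 1),
      ([2], 2),
      ([], 2),
      ([], 1),
      ([], 0),
      ([2], 0)]

/-- Roots whose span the smaller parabolic preserves. -/
def span2 : List (Fin 72) := [39, 40, 41, 43, 44, 45, 47, 48, 49, 50, 51, 52, 53, 54, 55, 58, 59, 60, 61, 62, 63, 64, 65, 66, 67, 68, 69, 70, 71]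

theorem valid2 : (tab.step data2).validB S = true := by decide +kernel

theorem masks2 :
    ((List.range (tab.step data2).m).map fun c => Step.maskOf S span2 ((tab.step data2).word c)).Nodup := by
  decide +kernel

/-- Data of step 3. -/
def data3 : Tab.StepData where
  m := 3
  K := [0, 1, 2]
  J := [0, 1]
  acts := [0x10200, 0x20100, 0x20001, 0x0, 0x0, 0x0]
  words := [[],
      [2],
      [0, 2]]
  cuts := [0x0, 0x0, 0x0, 0x0, 0x0, 0x0]
  jroots := [([0], 0),
      ([1], 1),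
      ([], 1),
      ([], 0)]

/-- Roots whose span the smaller parabolic preserves. -/
def span3 : List (Fin 72) := [42, 43, 44, 45, 50, 51, 52, 53, 54, 55, 57, 58, 59, 60, 61, 62, 63, 64, 65, 66, 67, 68, 69, 70, 71]

theorem valid3 : (tab.step data3).validB S = true := by decide +kernel

theorem masks3 :
    ((List.range (tab.step data3).m).map fun c => Step.maskOf S span3 ((tab.step data3).word c)).Nodup := by
  decide +kernel

/-- Data of step 4. -/
def data4 : Tab.StepData where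
  m := 2
  K := [0, 1]
  J := [0]
  acts := [0x100, 0x1, 0x0, 0x0, 0x0, 0x0]
  words := [[],
      [1]]
  cuts := [0x0, 0x0, 0x0, 0x0, 0x0, 0x0]
  jroots := [([0], 0),
      ([], 0)]

/-- Roots whose span the smaller parabolic preserves. -/
def span4 : List (Fin 72) := [46, 47, 48, 49, 50, 51, 52, 53, 54, 55, 61, 62, 63, 64, 65, 66, 67, 68, 69, 70, 71]

theorem valid4 : (tab.step data4).validB S = true := by decide +kernel

theorem masks4 :
    ((List.range (tab.step data4).m).map fun c => Step.maskOf S span4 ((tab.step data4).word c)).Nodup := by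
  decide +kernel

/-- Data of step 5. -/
def data5 : Tab.StepData where
  m := 2
  K := [0]
  J := []
  acts := [0x1, 0x0, 0x0, 0x0, 0x0, 0x0]
  words := [[],
      [0]]
  cuts := [0x0, 0x0, 0x0, 0x0, 0x0, 0x0]
  jroots := []

/-- Roots whose span the smaller parabolic preserves. -/
def span5 : List (Fin 72) := [56, 57, 58, 59, 60, 61, 62, 63, 64, 65, 66, 67, 68, 69, 70, 71]

theorem valid5 : (tab.step data5).validB S = true := by decide +kernel

theorem masks5 :
    ((List.range (tab.step data5).m).map fun c => Step.maskOf S span5 ((tab.step data5).word c)).Nodup := by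
  decide +kernel

end Cfsg.Agent.ChevGroup.TypeE6
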