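import Cfsg.Agent.ChevGroup.Table.Tab

/-!
Root system and parabolic chain certificates of type F4, generated from the tables of `Def_ChevF4`.
-/

set_option autoImplicit false

namespace Cfsg.Agent.ChevGroup.TypeF4

/-- The root system tables. -/
def tab : Tab where
  n := 48
  l := 4
  simpleT := 0x18191b21
  reflT := [0x2f2e2d28201f1e2c2726251d1c1b0e2b2a292423221a19181716150d0c0b060504211413120a09080311100f07020100,
    0x2f2e2b2c2d2a292728242326252122201a191d1c141f1e181711101b131216150f0d0e0a090c0b070806050203040100,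
    0x2f2d2e2c2a2b2928262725242223211f201e1d1b1c18161a151917131412110f100e0c0d0b0a08090706040503010200,
    0x2e2f2d2c2b292a2827252623242221201e1f1c1d1b191a1718151614121310110f0e0d0b0c090a080705060403020001]
  n_pos := by decide
  l_pos := by decide

theorem tab_ok : tab.ok = true := by decide +kernel

/-- The root system. -/
abbrev S : RootIdx (Fin tab.n) (Fin tab.l) := tab.idx tab_ok

instance : DecidablePred S.pos := fun r => inferInstanceAs (Decidable (tab.n ≤ 2 * r.val))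

/-- A longest word. -/
def w0 : List (Fin 4) := [3, 2, 1, 2, 0, 1, 2, 3, 2, 1, 2, 0, 1, 2, 3, 2, 1, 2, 0, 1, 2, 0, 1, 0]

/-- A word carrying a fundamental root to each root. -/
def rootWit : List (List (Fin 4) × Fin 4) := [([3, 2, 1, 2, 3, 0, 1, 2], 2),
  ([2, 1, 2, 3, 0, 1, 2], 2),
  ([1, 2, 3, 0, 1, 2], 2),
  ([0, 1, 2, 3, 1, 2, 1, 0], 0),
  ([2, 3, 0, 1, 2], 2),
  ([3, 0, 1, 2], 2),
  ([0, 1, 2], 2),
  ([1, 2, 3, 1, 2, 1, 0], 0),
  ([2, 3, 1, 2, 1, 0], 0),
  ([3, 1, 2, 1, 0], 0),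
  ([1, 2, 1, 0], 0),
  ([3, 2, 1, 0], 0),
  ([2, 1, 0], 0),
  ([1, 0], 0),
  ([0], 0),
  ([2, 3, 1, 2], 2),
  ([3, 1, 2], 2),
  ([1, 2], 2),
  ([3, 2, 1], 1),
  ([2, 1], 1),
  ([1], 1),
  ([3, 2], 2),
  ([2], 2),
  ([3], 3),
  ([], 3),
  ([], 2),
  ([3], 2),
  ([], 1),
  ([2], 1),
  ([3, 2], 1),
  ([1], 2),
  ([3, 1], 2),
  ([2, 3, 1], 2),
  ([], 0),
  ([1], 0),
  ([2, 1], 0),
  ([3, 2, 1], 0),
  ([1, 2, 1], 0),
  ([3, 1, 2, 1], 0),
  ([2, 3, 1, 2, 1], 0),
  ([1, 2, 3, 1, 2, 1], 0),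
  ([0, 1], 2),
  ([3, 0, 1], 2),
  ([2, 3, 0, 1], 2),
  ([0, 1, 2, 3, 1, 2, 1], 0),
  ([1, 2, 3, 0, 1], 2),
  ([2, 1, 2, 3, 0, 1], 2),
  ([3, 2, 1, 2, 3, 0, 1], 2)]

/-- Data of step 0. -/
def data0 : Tab.StepData where
  m := 24
  K := [0, 1, 2, 3]
  J := [0, 1, 2]
  acts := [0x1716151314100f12110e0d0c0b0a07080905060304020100, 0x171614151312110e0d100f0c090a0b060708050402030100, 0x17151612101411130f0c0b0e0d08090a0704030605010200, 0x161715141311120f100d0e0a080c060b0509070403020001]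
  words := [[],
      [3],
      [2, 3],
      [1, 2, 3],
      [0, 1, 2, 3],
      [2, 1, 2, 3],
      [2, 0, 1, 2, 3],
      [3, 2, 1, 2, 3],
      [1, 2, 0, 1, 2, 3],
      [3, 2, 0, 1, 2, 3],
      [2, 1, 2, 0, 1, 2, 3],
      [3, 1, 2, 0, 1, 2, 3],
      [3, 2, 1, 2, 0, 1, 2, 3],
      [2, 3, 1, 2, 0, 1, 2, 3],
      [2, 3, 2, 1, 2, 0, 1, 2, 3],
      [1, 2, 3, 1, 2, 0, 1, 2, 3],
      [1, 2, 3, 2, 1, 2, 0, 1, 2, 3],
      [0, 1, 2, 3, 1, 2, 0, 1, 2, 3],
      [0, 1, 2, 3, 2, 1, 2, 0, 1, 2, 3],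
      [2, 1, 2, 3, 2, 1, 2, 0, 1, 2, 3],
      [2, 0, 1, 2, 3, 2, 1, 2, 0, 1, 2, 3],
      [1, 2, 0, 1, 2, 3, 2, 1, 2, 0, 1, 2, 3],
      [2, 1, 2, 0, 1, 2, 3, 2, 1, 2, 0, 1, 2, 3],
      [3, 2, 1, 2, 0, 1, 2, 3, 2, 1, 2, 0, 1, 2, 3]]
  cuts := [0x100000000000000000000000200010000000000, 0x1000000000000000000, 0x0, 0x40003000200000000000000000000000000]
  jroots := [([0, 1, 2], 2),
      ([1, 2, 1, 0], 0),
      ([2, 1, 0], 0),
      ([1, 0], 0),
      ([0], 0),
      ([1, 2], 2),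
      ([2, 1], 1),
      ([1], 1),
      ([2], 2),
      ([], 2),
      ([], 1),
      ([2], 1),
      ([1], 2),
      ([], 0),
      ([1], 0),
      ([2, 1], 0),
      ([1, 2, 1], 0),
      ([0, 1], 2)]

/-- Roots whose span the smaller parabolic preserves. -/
def span0 : List (Fin 48) := [24, 26, 29, 31, 32, 36, 38, 39, 40, 42, 43, 44, 45, 46, 47]

theorem valid0 : (tab.step data0).validB S = true := by decide +kernel

theorem masks0 :
    ((List.range (tab.step data0).m).map fun c => Step.maskOf S span0 ((tab.step data0).word c)).Nodup := by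
  decide +kernel

/-- Data of step 1. -/
def data1 : Tab.StepData where
  m := 8
  K := [0, 1, 2]
  J := [0, 1]
  acts := [0x706040502030100, 0x705060403010200, 0x607030205040001, 0x0]
  words := [[],
      [2],
      [1, 2],
      [0, 1, 2],
      [2, 1, 2],
      [2, 0, 1, 2],
      [1, 2, 0, 1, 2],
      [2, 1, 2, 0, 1, 2]]
  cuts := [0x100000000, 0x0, 0x0, 0x0]
  jroots := [([1, 0], 0),
      ([0], 0),
      ([1], 1),
      ([], 1),
      ([], 0),
      ([1], 0)]

/-- Roots whose span the smaller parabolic preserves. -/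
def span1 : List (Fin 48) := [25, 26, 28, 29, 30, 31, 32, 35, 36, 37, 38, 39, 40, 41, 42, 43, 44, 45, 46, 47]

theorem valid1 : (tab.step data1).validB S = true := by decide +kernel

theorem masks1 :
    ((List.range (tab.step data1).m).map fun c => Step.maskOf S span1 ((tab.step data1).word c)).Nodup := by
  decide +kernel

/-- Data of step 2. -/
def data2 : Tab.StepData where
  m := 3
  K := [0, 1]
  J := [0]
  acts := [0x10200, 0x20001, 0x0, 0x0]
  words := [[],
      [1],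
      [0, 1]]
  cuts := [0x0, 0x0, 0x0, 0x0]
  jroots := [([0], 0),
      ([], 0)]

/-- Roots whose span the smaller parabolic preserves. -/
def span2 : List (Fin 48) := [27, 28, 29, 30, 31, 32, 34, 35, 36, 37, 38, 39, 40, 41, 42, 43, 44, 45, 46, 47]

theorem valid2 : (tab.step data2).validB S = true := by decide +kernel

theorem masks2 :
    ((List.range (tab.step data2).m).map fun c => Step.maskOf S span2 ((tab.step data2).word c)).Nodup := by
  decide +kernel

/-- Data of step 3. -/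
def data3 : Tab.StepData where
  m := 2
  K := [0]
  J := []
  acts := [0x1, 0x0, 0x0, 0x0]
  words := [[],
      [0]]
  cuts := [0x0, 0x0, 0x0, 0x0]
  jroots := []

/-- Roots whose span the smaller parabolic preserves. -/
def span3 : List (Fin 48) := [33, 34, 35, 36, 37, 38, 39, 40, 41, 42, 43, 44, 45, 46, 47]

theorem valid3 : (tab.step data3).validB S = true := by decide +kernel

theorem masks3 :
    ((List.range (tab.step data3).m).map fun c => Step.maskOf S span3 ((tab.step data3).word c)).Nodup := by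
  decide +kernel

end Cfsg.Agent.ChevGroup.TypeF4
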