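import Cfsg.Agent.ChevGroup.Step
import Cfsg.Agent.ChevGroup.Exchange

/-!
Root systems given by packed tables (one byte per entry, in a natural number, so that a look-up is one
shift and one remainder), and Boolean checkers for the certificates of `Step`.
-/

set_option autoImplicit false

namespace Cfsg.Agent.ChevGroup

/-- The `i`-th byte of `T`. -/
def byteAt (T i : ℕ) : ℕ := (T >>> (8 * i)) % 256

/-- Tables of a root system: the roots `0, …, n-1`, the positive ones are those with `n ≤ 2 r`, and `-r`
is `n - 1 - r`. -/
structure Tab where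
  n : ℕ
  l : ℕ
  simpleT : ℕ
  reflT : List ℕ
  n_pos : 0 < n
  l_pos : 0 < l

namespace Tab

variable (T : Tab)

instance : NeZero T.n := ⟨T.n_pos.ne'⟩

/-- The index of a fundamental root. -/
def simpleR (i : Fin T.l) : Fin T.n := Fin.ofNat T.n (byteAt T.simpleT i.val)

/-- The negative of a root. -/
def negR (r : Fin T.n) : Fin T.n := ⟨T.n - 1 - r.val, by have := r.isLt; omega⟩

/-- The reflection in a fundamental root. -/
def reflR (i : Fin T.l) (r : Fin T.n) : Fin T.n := Fin.ofNat T.n (byteAt (T.reflT.getD i.val 0) r.val)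

/-- Being positive. -/
def posR (r : Fin T.n) : Prop := T.n ≤ 2 * r.val

/-- The Boolean form of the axioms. -/
def ok : Bool :=
  decide (T.n % 2 = 0) &&
  (List.finRange T.l).all fun i =>
    decide (T.n ≤ 2 * (T.simpleR i).val) && decide (T.reflR i (T.simpleR i) = T.negR (T.simpleR i)) &&
    (List.finRange T.n).all fun r =>
      decide (T.reflR i (T.reflR i r) = r) && decide (T.reflR i (T.negR r) = T.negR (T.reflR i r)) &&
      (decide (2 * r.val < T.n) || decide (r = T.simpleR i) || decide (T.n ≤ 2 * (T.reflR i r).val))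

/-- The root system of a table. -/
def idx (h : T.ok = true) : RootIdx (Fin T.n) (Fin T.l) where
  simple := T.simpleR
  neg := T.negR
  refl := T.reflR
  pos := T.posR
  neg_neg r := by
    apply Fin.ext
    simp only [negR]
    have := r.isLt
    omega
  simple_pos i := by
    simp only [ok, Bool.and_eq_true, List.all_eq_true, decide_eq_true_eq] at h
    exact (h.2 i (List.mem_finRange i)).1.1
  pos_or_neg r := by
    simp only [ok, Bool.and_eq_true, decide_eq_true_eq] at h
    simp only [posR, negR]
    have := r.isLt
    omega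
  not_pos_neg r hr := by
    simp only [posR, negR] at hr ⊢
    have := r.isLt
    omega
  refl_refl i r := by
    simp only [ok, Bool.and_eq_true, List.all_eq_true, decide_eq_true_eq] at h
    exact ((h.2 i (List.mem_finRange i)).2 r (List.mem_finRange r)).1.1
  refl_neg i r := by
    simp only [ok, Bool.and_eq_true, List.all_eq_true, decide_eq_true_eq] at h
    exact ((h.2 i (List.mem_finRange i)).2 r (List.mem_finRange r)).1.2
  refl_simple i := by
    simp only [ok, Bool.and_eq_true, List.all_eq_true, decide_eq_true_eq] at h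
    exact (h.2 i (List.mem_finRange i)).1.2
  refl_pos i r hr hne := by
    simp only [ok, Bool.and_eq_true, List.all_eq_true, decide_eq_true_eq, Bool.or_eq_true] at h
    simp only [posR] at hr ⊢
    rcases ((h.2 i (List.mem_finRange i)).2 r (List.mem_finRange r)).2 with (h' | h') | h'
    · omega
    · exact absurd h' hne
    · exact h'

/-- Compact data of one step of the parabolic chain: `acts[i]` is the packed action of the `i`-th letter and
`par[d]` the first letter of the word of `d`. -/
structure StepData where
  m : ℕ
  K : List ℕ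
  J : List ℕ
  acts : List ℕ
  words : List (List ℕ)
  cuts : List ℕ
  jroots : List (List ℕ × ℕ)

/-- The certificate given by compact data. -/
def step (d : StepData) : Step (Fin T.l) :=
  haveI : NeZero T.l := ⟨T.l_pos.ne'⟩
  { m := d.m
    K := d.K.map (Fin.ofNat T.l)
    J := d.J.map (Fin.ofNat T.l)
    act := fun i c => byteAt (d.acts.getD i.val 0) c
    word := fun c => (d.words.getD c []).map (Fin.ofNat T.l)
    cut := fun i c => byteAt (d.cuts.getD i.val 0) c
    jroots := d.jroots.map fun p => (p.1.map (Fin.ofNat T.l), Fin.ofNat T.l p.2) }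

end Tab

namespace Step

variable {Φ I : Type*} [DecidableEq I] [DecidableEq Φ] (C : Step I) (S : RootIdx Φ I)
  [DecidablePred S.pos]

/-- The Boolean form of `IsUp`. -/
def isUpB (i : I) (c : ℕ) : Bool :=
  let d := C.act i c
  let w := C.word d
  let k := C.cut i c
  decide (S.pos (C.back S i c)) && decide (c < d) && decide (d < C.m) &&
    (match w[k]? with
     | none => false
     | some j => decide (S.actw (w.take k) (S.simple j) = S.simple i) &&
        decide (C.run d (w.take k ++ w.drop (k + 1)) = (c, true)))

lemma isUp_of_isUpB {i : I} {c : ℕ} (h : C.isUpB S i c = true) : C.IsUp S i c := by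
  simp only [isUpB, Bool.and_eq_true, decide_eq_true_eq] at h
  obtain ⟨⟨⟨h1, h2⟩, h3⟩, h4⟩ := h
  cases hk : (C.word (C.act i c))[C.cut i c]? with
  | none => simp [hk] at h4
  | some j =>
    rw [hk] at h4
    simp only [Bool.and_eq_true, decide_eq_true_eq] at h4
    obtain ⟨hlt, rfl⟩ := List.getElem?_eq_some_iff.1 hk
    exact ⟨h1, h2, h3, hlt, h4.1, h4.2⟩

/-- The Boolean form of `Valid`. -/
def validB : Bool :=
  let jl := C.jList S
  (C.K.all fun i => (List.range C.m).all fun c =>
    (decide (C.back S i c ∈ jl) && decide (C.act i c = c)) || C.isUpB S i c ||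
      (C.isUpB S i (C.act i c) && decide (C.act i (C.act i c) = c))) &&
  (C.jroots.all fun p => (p.1.all fun j => decide (j ∈ C.J)) && decide (p.2 ∈ C.J)) &&
  (C.J.all fun j => decide (j ∈ C.K)) && decide (0 < C.m) && decide (C.word 0 = []) &&
  ((List.range C.m).all fun d => decide (d = 0) ||
    match C.word d with
    | [] => false
    | i :: t => decide (i ∈ C.K) && decide (C.act i (C.act i d) = d) &&
        (decide (S.pos (C.back S i (C.act i d))) && decide (C.act i d < d) &&
          (C.isUpB S i (C.act i d) && decide (C.word (C.act i d) = t))))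

lemma valid_of_validB (h : C.validB S = true) : C.Valid S := by
  simp only [validB, Bool.and_eq_true, List.all_eq_true, decide_eq_true_eq, Bool.or_eq_true,
    List.mem_range] at h
  obtain ⟨⟨⟨⟨⟨he, hj⟩, hJK⟩, hm⟩, h0⟩, hpar⟩ := h
  refine ⟨fun i hi c hc => ?_, fun p hp => hj p hp, hJK, hm, h0, fun d hd hd0 => ?_⟩
  · rcases he i hi c hc with (h | h) | h
    · exact Or.inl h
    · exact Or.inr (Or.inl (C.isUp_of_isUpB S h))
    · exact Or.inr (Or.inr ⟨C.isUp_of_isUpB S h.1, h.2⟩)
  · rcases hpar d hd with h | h
    · exact absurd h hd0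
    · cases hw : C.word d with
      | nil => simp [hw] at h
      | cons i t =>
        rw [hw] at h
        simp only [Bool.and_eq_true, decide_eq_true_eq] at h
        exact ⟨i, h.1.1, rfl, h.1.2, C.isUp_of_isUpB S h.2.2.1, h.2.2.2⟩

/-- The bit mask of the image of a list of roots. -/
def maskOf {n : ℕ} {J : Type*} (S : RootIdx (Fin n) J) (SS : List (Fin n)) (w : List J) : ℕ :=
  SS.foldr (fun r acc => acc ||| 2 ^ (S.actw w r).val) 0

lemma testBit_maskOf {n : ℕ} {J : Type*} (S : RootIdx (Fin n) J) (SS : List (Fin n)) (w : List J)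
    (k : ℕ) : (maskOf S SS w).testBit k = true ↔ ∃ r ∈ SS, (S.actw w r).val = k := by
  induction SS with
  | nil => simp [maskOf]
  | cons a t ih =>
    simp only [maskOf, List.foldr_cons, Nat.testBit_or, Bool.or_eq_true, Nat.testBit_two_pow,
      decide_eq_true_eq, List.mem_cons] at ih ⊢
    rw [ih]
    constructor
    · rintro (⟨r, hr, e⟩ | e)
      · exact ⟨r, Or.inr hr, e⟩
      · exact ⟨a, Or.inl rfl, e⟩
    · rintro ⟨r, rfl | hr, e⟩
      · exact Or.inr e
      · exact Or.inl ⟨r, hr, e⟩

end Step

end Cfsg.Agent.ChevGroup
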